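import Cfsg.Agent.H603.CC.Defs

/-!
# S4793, task [UE]: the unipotent radical of the stabilizer of a totally singular subspace (helper161)

`UE B E`, and the theorems `exists_zz` ... `conj_ue` of `tools/plans/S4793_tasks.lean`.
-/

set_option autoImplicit false
set_option linter.unusedVariables false

open Cfsg

namespace Cfsg.Agent.H161.CC

open Module Cfsg.Agent.H603.CC Cfsg.Agent.ClassicalGeometry.HermWitt

universe u v

variable {F : Type u} {V : Type v} [Field F] [AddCommGroup V] [Module F V] {q : ℕ} {σ : F →+* F}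
  {B : V →ₛₗ[σ] V →ₗ[F] F}

/-! ### Preliminaries -/

theorem perp_symm (h : HS q σ B) {W : Submodule F V} {v w : V} (hv : v ∈ perp B W) (hw : w ∈ W) : B v w = 0 :=
  h.zero_symm (hv w hw)

theorem le_perp {E : Submodule F V} (hE : IsTS B E) : E ≤ perp B E := fun x hx w hw => hE w hw x hx

/-- the double orthogonal complement -/
theorem mem_of_mem_perp_perp [Finite F] [Finite V] (h : HS q σ B) {W : Submodule F V} {x : V}
    (hx : x ∈ perp B (perp B W)) : x ∈ W := by
  have := finrank_eq_of_HS h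
  by_contra hxW
  obtain ⟨ℓ, hℓ, hker⟩ := Submodule.exists_le_ker_of_notMem hxW
  obtain ⟨w, hw⟩ := exists_represent σ B h.sep LinearMap.id Function.injective_id ℓ
  have h1 : w ∈ perp B W := by
    intro y hy
    refine h.zero_symm ?_
    have h2 := hw y
    rw [LinearMap.id_apply] at h2
    rw [h2]
    exact hker hy
  apply hℓ
  have h2 := hw x
  rw [LinearMap.id_apply] at h2
  rw [← h2]
  exact hx w h1

/-- an isometry defines an element of the unitary group -/
theorem exists_of_isometry [Finite F] [Finite V] (h : HS q σ B) (φ : V →ₗ[F] V)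
    (hφ : ∀ x y, B (φ x) (φ y) = B x y) : ∃ g : UU B, ∀ x, ac B g x = φ x := by
  have := finrank_eq_of_HS h
  have hinj : Function.Injective φ := by
    rw [← LinearMap.ker_eq_bot, LinearMap.ker_eq_bot']
    intro x hx
    refine h.ext fun y => ?_
    rw [← hφ, hx, map_zero, LinearMap.zero_apply]
  exact ⟨mkU (LinearEquiv.ofInjectiveEndo φ hinj) fun x y => hφ x y, fun x => rfl⟩

/-- an element of the unitary group which fixes `w` satisfies `B w (g x) = B w x` -/
theorem form_fix {g : UU B} {w : V} (hw : ac B g w = w) (x : V) : B w (ac B g x) = B w x := by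
  conv_lhs => rw [← hw]
  exact form_ac g w x

theorem ac_inv_eq {g : UU B} {x : V} (hx : ac B g x = x) : ac B g⁻¹ x = x := by
  conv_lhs => rw [← hx]
  exact ac_inv_ac g x

/-- elements of `FixS (perp E)` move everything by elements of `E` -/
theorem sub_mem_of_FixS [Finite F] [Finite V] (h : HS q σ B) {E : Submodule F V} {g : UU B}
    (hg : g ∈ FixS B (perp B E)) (x : V) : ac B g x - x ∈ E := by
  refine mem_of_mem_perp_perp h fun w hw => ?_
  rw [map_sub, form_fix (hg w hw), sub_self]

/-! ### `UE` -/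

/-- The unipotent radical of the stabilizer of `E`. -/
def UE (B : V →ₛₗ[σ] V →ₗ[F] F) (E : Submodule F V) : Subgroup (UU B) where
  carrier := {g | (∀ x ∈ E, ac B g x = x) ∧ ∀ x ∈ perp B E, ac B g x - x ∈ E}
  mul_mem' := by
    rintro a b ⟨ha, ha'⟩ ⟨hb, hb'⟩
    refine ⟨fun x hx => by rw [ac_mul, hb x hx, ha x hx], fun x hx => ?_⟩
    have h1 := hb' x hx
    have h2 : ac B (a * b) x - x = (ac B b x - x) + (ac B a x - x) := by
      have h3 : ac B b x = (ac B b x - x) + x := by abel
      rw [ac_mul]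
      conv_lhs => rw [h3, ac_add, ha _ h1]
      abel
    rw [h2]
    exact E.add_mem h1 (ha' x hx)
  one_mem' := ⟨fun x _ => rfl, fun x _ => by rw [ac_one, sub_self]; exact E.zero_mem⟩
  inv_mem' := by
    rintro a ⟨ha, ha'⟩
    refine ⟨fun x hx => ac_inv_eq (ha x hx), fun x hx => ?_⟩
    have h1 := ha' x hx
    have h2 : ac B a⁻¹ x - x = - (ac B a x - x) := by
      have h3 : ac B a x = (ac B a x - x) + x := by abel
      have h4 : x = (ac B a x - x) + ac B a⁻¹ x := by
        conv_lhs => rw [← ac_inv_ac a x, h3, ac_add, ac_inv_eq (ha _ h1)]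
      rw [eq_neg_iff_add_eq_zero, ← sub_eq_zero.2 h4.symm]
      abel
    rw [h2]
    exact E.neg_mem h1

theorem mem_UE {E : Submodule F V} {g : UU B} :
    g ∈ UE B E ↔ (∀ x ∈ E, ac B g x = x) ∧ ∀ x ∈ perp B E, ac B g x - x ∈ E := Iff.rfl

theorem exists_zz [Finite F] [Finite V] (h : HS q σ B) {E : Submodule F V} (hE : IsTS B E) {e e' : V} (he : e ∈ E)
    (he' : e' ∈ E) : ∃ z ∈ FixS B (perp B E), ∀ x, ac B z x = x + B e x • e' - B e' x • e := by
  let φ : V →ₗ[F] V := LinearMap.id + (B e).smulRight e' - (B e').smulRight e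
  have hφ : ∀ x, φ x = x + B e x • e' - B e' x • e := fun x => rfl
  obtain ⟨z, hz⟩ := exists_of_isometry h φ (by
    intro x y
    have h1 := hE e he e he
    have h2 := hE e he e' he'
    have h3 := hE e' he' e he
    have h4 := hE e' he' e' he'
    rw [hφ, hφ]
    simp only [map_add, map_sub, map_smul, LinearMap.add_apply, LinearMap.sub_apply, LinearMap.map_smulₛₗ₂, smul_eq_mul,
      h.sy, h1, h2, h3, h4]
    ring)
  refine ⟨z, fun w hw => ?_, hz⟩
  rw [hz, hφ, hw e he, hw e' he', zero_smul, zero_smul, add_zero, sub_zero]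

theorem FixS_le_UE {E : Submodule F V} (hE : IsTS B E) : FixS B (perp B E) ≤ UE B E := by
  intro g hg
  refine ⟨fun x hx => hg x (le_perp hE hx), fun x hx => ?_⟩
  rw [hg x hx, sub_self]
  exact E.zero_mem

/-- elements of `UE` move everything by elements of `perp E` -/
theorem sub_mem_of_UE {E : Submodule F V} {u : UU B} (hu : u ∈ UE B E) (x : V) : ac B u x - x ∈ perp B E := by
  intro w hw
  rw [map_sub, form_fix (hu.1 w hw), sub_self]

theorem FixS_comm_UE [Finite F] [Finite V] (h : HS q σ B) {E : Submodule F V} (hE : IsTS B E) {z u : UU B}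
    (hz : z ∈ FixS B (perp B E)) (hu : u ∈ UE B E) : z * u = u * z := by
  refine ac_ext fun x => ?_
  have h1 := hz _ (sub_mem_of_UE hu x)
  have h2 := hu.1 _ (sub_mem_of_FixS h hz x)
  rw [ac_sub] at h1 h2
  rw [ac_mul, ac_mul]
  have h3 : ac B z (ac B u x) = ac B z x + (ac B u x - x) := by rw [← h1]; abel
  have h4 : ac B u (ac B z x) = ac B u x + (ac B z x - x) := by rw [← h2]; abel
  rw [h3, h4]
  abel

/-! ### Reflections -/

/-- reflections with centre `f` -/
theorem ref_apply [Finite F] [Finite V] (h : HS q σ B) {f : V} (hf : B f f = 1) {ρ : UU B} (hρ : ρ ∈ Ref B f) :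
    ∃ c : F, σ c * c = 1 ∧ ∀ x, ac B ρ x = x + ((c - 1) * B f x) • f := by
  have h1 : ac B ρ f ∈ Submodule.span F {f} := by
    refine mem_of_mem_perp_perp h fun w hw => ?_
    rw [form_fix (hρ w hw)]
    exact h.zero_symm (hw f (Submodule.mem_span_singleton_self f))
  obtain ⟨c, hc⟩ := Submodule.mem_span_singleton.1 h1
  refine ⟨c, ?_, fun x => ?_⟩
  · have h2 := form_ac ρ f f
    rw [← hc, LinearMap.map_smulₛₗ₂, map_smul, hf, smul_eq_mul, smul_eq_mul, mul_one] at h2
    exact h2
  · have h2 : x - B f x • f ∈ perp B (Submodule.span F {f}) := by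
      intro w hw
      obtain ⟨a, rfl⟩ := Submodule.mem_span_singleton.1 hw
      rw [LinearMap.map_smulₛₗ₂, map_sub, map_smul, hf, smul_eq_mul, smul_eq_mul, mul_one, sub_self, mul_zero]
    have h3 := hρ _ h2
    rw [ac_sub, ac_smul, ← hc] at h3
    rw [sub_eq_iff_eq_add.1 h3, smul_smul, sub_mul, one_mul, sub_smul, mul_comm]
    abel

theorem ref_fix {E : Submodule F V} (h : HS q σ B) {f : V} (hfE : f ∈ perp B E) {ρ : UU B} (hρ : ρ ∈ Ref B f)
    {x : V} (hx : x ∈ E) : ac B ρ x = x := by
  refine hρ x fun w hw => ?_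
  obtain ⟨a, rfl⟩ := Submodule.mem_span_singleton.1 hw
  rw [LinearMap.map_smulₛₗ₂, perp_symm h hfE hx, smul_zero]

theorem FixS_comm_Ref [Finite F] [Finite V] (h : HS q σ B) {E : Submodule F V} (hE : IsTS B E) {f : V}
    (hf : B f f = 1) (hfE : f ∈ perp B E) {z ρ : UU B} (hz : z ∈ FixS B (perp B E)) (hρ : ρ ∈ Ref B f) :
    z * ρ = ρ * z := by
  refine ac_ext fun x => ?_
  obtain ⟨c, -, hc⟩ := ref_apply h hf hρ
  have h1 := hz f hfE
  rw [ac_mul, ac_mul, hc, hc, ac_add, ac_smul, h1, form_fix h1]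

theorem Ref_norm_UE [Finite F] [Finite V] (h : HS q σ B) {E : Submodule F V} (hE : IsTS B E) {f : V}
    (hf : B f f = 1) (hfE : f ∈ perp B E) {u ρ : UU B} (hu : u ∈ UE B E) (hρ : ρ ∈ Ref B f) :
    ρ * u * ρ⁻¹ ∈ UE B E := by
  have h1 : ∀ x ∈ E, ac B ρ x = x := fun x hx => ref_fix h hfE hρ hx
  refine ⟨fun x hx => ?_, fun x hx => ?_⟩
  · rw [ac_mul, ac_mul, ac_inv_eq (h1 x hx), hu.1 x hx, h1 x hx]
  · have h2 : ac B ρ⁻¹ x ∈ perp B E := fun w hw => by rw [form_fix (ac_inv_eq (h1 w hw)), hx w hw]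
    have h3 := hu.2 _ h2
    have h4 := h1 _ h3
    rw [ac_sub, ac_ac_inv] at h4
    rw [ac_mul, ac_mul, h4]
    exact h3

theorem Ref_inf_UE [Finite F] [Finite V] (h : HS q σ B) {E : Submodule F V} (hE : IsTS B E) {f : V}
    (hf : B f f = 1) (hfE : f ∈ perp B E) {ρ : UU B} (hρ : ρ ∈ Ref B f) (hρ' : ρ ∈ UE B E) : ρ = 1 := by
  obtain ⟨c, -, hc⟩ := ref_apply h hf hρ
  have h1 := perp_symm h hfE (hρ'.2 f hfE)
  rw [hc, hf, mul_one, add_sub_cancel_left, map_smul, hf, smul_eq_mul, mul_one] at h1
  refine ac_ext fun x => ?_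
  rw [hc, h1, zero_mul, zero_smul, add_zero, ac_one]

/-- the action on `f` -/
theorem exists_ue [Finite F] [Finite V] (h : HS q σ B) {E : Submodule F V} (hE : IsTS B E) {f : V} (hf : B f f = 1)
    (hfE : f ∈ perp B E) {e : V} (he : e ∈ E) : ∃ u ∈ UE B E, ac B u f = f + e := by
  obtain ⟨k, hk⟩ := trace_surj σ h.ne_id h.inv (-1) (by rw [map_neg, map_one])
  let φ : V →ₗ[F] V := LinearMap.id + (B f).smulRight e - (B e).smulRight f + k • (B e).smulRight e
  have hφ : ∀ x, φ x = x + B f x • e - B e x • f + k • (B e x • e) := fun x => rfl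
  have h1 := hE e he e he
  have h2 : B e f = 0 := hfE e he
  have h3 : B f e = 0 := h.zero_symm h2
  obtain ⟨u, hu⟩ := exists_of_isometry h φ (by
    intro x y
    rw [hφ, hφ]
    simp only [map_add, map_sub, map_smul, LinearMap.add_apply, LinearMap.sub_apply, LinearMap.map_smulₛₗ₂, smul_eq_mul,
      h.sy, h1, h2, h3, hf]
    linear_combination (B x e * B e y) * hk)
  refine ⟨u, ⟨fun x hx => ?_, fun x hx => ?_⟩, ?_⟩
  · rw [hu, hφ, hE e he x hx, perp_symm h hfE hx]
    simp
  · rw [hu, hφ, hx e he]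
    have h4 : x + B f x • e - (0 : F) • f + k • ((0 : F) • e) - x = B f x • e := by
      simp
    rw [h4]
    exact E.smul_mem _ he
  · rw [hu, hφ, hf, h2]
    simp

theorem mem_FixS_of_ue [Finite F] [Finite V] (h : HS q σ B) {E : Submodule F V} (hE : IsTS B E) {f : V}
    (hf : B f f = 1) (hfE : perp B E = E ⊔ Submodule.span F {f}) {u : UU B} (hu : u ∈ UE B E)
    (huf : ac B u f = f) : u ∈ FixS B (perp B E) := by
  intro w hw
  rw [hfE, Submodule.mem_sup] at hw
  obtain ⟨a, ha, b, hb, rfl⟩ := hw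
  obtain ⟨c, rfl⟩ := Submodule.mem_span_singleton.1 hb
  rw [ac_add, ac_smul, huf, hu.1 a ha]

theorem mem_perp_of_sup {E : Submodule F V} {f : V} (hfE : perp B E = E ⊔ Submodule.span F {f}) : f ∈ perp B E := by
  rw [hfE]
  exact Submodule.mem_sup_right (Submodule.mem_span_singleton_self f)

/-- elements of `UE` on `perp E` -/
theorem ue_apply_perp {E : Submodule F V} (h : HS q σ B) {f : V} (hf : B f f = 1)
    (hfE : perp B E = E ⊔ Submodule.span F {f}) {u : UU B} (hu : u ∈ UE B E) {e : V} (hue : ac B u f = f + e) {p : V}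
    (hp : p ∈ perp B E) : ac B u p = p + B f p • e := by
  have hp' := hp
  rw [hfE, Submodule.mem_sup] at hp'
  obtain ⟨a, ha, b, hb, rfl⟩ := hp'
  obtain ⟨c, rfl⟩ := Submodule.mem_span_singleton.1 hb
  rw [ac_add, ac_smul, hue, hu.1 a ha, map_add, map_smul, hf, perp_symm h (mem_perp_of_sup hfE) ha, smul_eq_mul,
    mul_one, zero_add, smul_add, add_assoc]

/-- the component along `f` of the displacement -/
theorem form_ue {E : Submodule F V} {f : V} {u : UU B} (hu : u ∈ UE B E) {e : V} (he : e ∈ E)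
    (hue : ac B u f = f + e) (x : V) : B f (ac B u x - x) = - B e x := by
  have h1 : B f (ac B u x) = B f x - B e x := by
    have h2 : B (ac B u f) (ac B u x) = B f x := form_ac u f x
    rw [hue, map_add, LinearMap.add_apply, form_fix (hu.1 e he)] at h2
    rw [← h2]
    ring
  rw [map_sub, h1]
  ring

/-- the commutator of two elements of `UE` -/
theorem commutator_ue' {E : Submodule F V} (h : HS q σ B) {f : V} (hf : B f f = 1)
    (hfE : perp B E = E ⊔ Submodule.span F {f}) {u w : UU B} (hu : u ∈ UE B E) (hw : w ∈ UE B E) {e e' : V}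
    (hue : ac B u f = f + e) (hwe : ac B w f = f + e') (x : V) :
    ac B (u * w * u⁻¹ * w⁻¹) x = x + B e x • e' - B e' x • e := by
  have hff := mem_perp_of_sup hfE
  have he : e ∈ E := by
    have := hu.2 f hff
    rwa [hue, add_sub_cancel_left] at this
  have he' : e' ∈ E := by
    have := hw.2 f hff
    rwa [hwe, add_sub_cancel_left] at this
  have key : ∀ y, ac B (u * w) y = ac B (w * u) y + B e y • e' - B e' y • e := by
    intro y
    have h1 : ac B u (ac B w y) = ac B u y + (ac B w y - y) + B f (ac B w y - y) • e := by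
      have h2 := ue_apply_perp h hf hfE hu hue (sub_mem_of_UE hw y)
      rw [ac_sub, sub_eq_iff_eq_add] at h2
      rw [h2]
      abel
    have h3 : ac B w (ac B u y) = ac B w y + (ac B u y - y) + B f (ac B u y - y) • e' := by
      have h2 := ue_apply_perp h hf hfE hw hwe (sub_mem_of_UE hu y)
      rw [ac_sub, sub_eq_iff_eq_add] at h2
      rw [h2]
      abel
    rw [form_ue hw he' hwe] at h1
    rw [form_ue hu he hue] at h3
    rw [ac_mul, ac_mul, h1, h3, neg_smul, neg_smul]
    abel
  have h4 := key (ac B (u⁻¹ * w⁻¹) x)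
  have h5 : ac B (w * u) (ac B (u⁻¹ * w⁻¹) x) = x := by
    rw [← ac_mul, mul_assoc, mul_inv_cancel_left, mul_inv_cancel, ac_one]
  have h6 : ac B (w * u) e = e := by rw [ac_mul, hu.1 e he, hw.1 e he]
  have h7 : ac B (w * u) e' = e' := by rw [ac_mul, hu.1 e' he', hw.1 e' he']
  have h8 : B e (ac B (u⁻¹ * w⁻¹) x) = B e x := by
    rw [← form_fix h6, h5]
  have h9 : B e' (ac B (u⁻¹ * w⁻¹) x) = B e' x := by
    rw [← form_fix h7, h5]
  rw [h5, h8, h9, ← ac_mul, ← mul_assoc] at h4
  exact h4

theorem commutator_ue [Finite F] [Finite V] (h : HS q σ B) {E : Submodule F V} (hE : IsTS B E) {f : V}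
    (hf : B f f = 1) (hfE : perp B E = E ⊔ Submodule.span F {f}) {u w : UU B} (hu : u ∈ UE B E) (hw : w ∈ UE B E)
    {e e' : V} (hue : ac B u f = f + e) (hwe : ac B w f = f + e') (x : V) :
    ac B (u * w * u⁻¹ * w⁻¹) x = x + B e x • e' - B e' x • e ∨
    ac B (u * w * u⁻¹ * w⁻¹) x = x - B e x • e' + B e' x • e :=
  Or.inl (commutator_ue' h hf hfE hu hw hue hwe x)

theorem conj_ue [Finite F] [Finite V] (h : HS q σ B) {E : Submodule F V} (hE : IsTS B E) {f : V} (hf : B f f = 1)
    (hfE : perp B E = E ⊔ Submodule.span F {f}) {ρ : UU B} (hρ : ρ ∈ Ref B f) (hρ1 : ρ ≠ 1) {u : UU B}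
    (hu : u ∈ UE B E) : ∃ w ∈ UE B E, ∃ z ∈ FixS B (perp B E), w * (ρ * u) * w⁻¹ = ρ * z := by
  have hff := mem_perp_of_sup hfE
  obtain ⟨c, hc1, hc⟩ := ref_apply h hf hρ
  have hc0 : c - 1 ≠ 0 := by
    intro h0
    apply hρ1
    refine ac_ext fun x => ?_
    rw [hc, h0, zero_mul, zero_smul, add_zero, ac_one]
  set e := ac B u f - f with he_def
  have he : e ∈ E := hu.2 f hff
  have hue : ac B u f = f + e := by rw [he_def]; abel
  clear_value e
  obtain ⟨w, hw, hwf⟩ := exists_ue h hE hf hff (E.smul_mem (-(c - 1)⁻¹) he)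
  refine ⟨w, hw, ρ⁻¹ * (w * (ρ * u) * w⁻¹), ?_, by group⟩
  have hmem : ρ⁻¹ * (w * (ρ * u) * w⁻¹) ∈ UE B E := by
    have h1 : ρ⁻¹ * (w * (ρ * u) * w⁻¹) = (ρ⁻¹ * w * ρ⁻¹⁻¹) * u * w⁻¹ := by group
    rw [h1]
    exact mul_mem (mul_mem (Ref_norm_UE h hE hf hff hw (inv_mem hρ)) hu) (inv_mem hw)
  refine mem_FixS_of_ue h hE hf hfE hmem ?_
  have hd : (-(c - 1)⁻¹) • e ∈ E := E.smul_mem _ he
  have h2 : ac B w⁻¹ f = f - (-(c - 1)⁻¹) • e := by
    have h3 : ac B w (f - (-(c - 1)⁻¹) • e) = f := by
      rw [ac_sub, hwf, hw.1 _ hd]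
      abel
    rw [← h3, ac_inv_ac, h3]
  have h4 : ac B ρ f = c • f := by
    rw [hc, hf, mul_one, sub_smul, one_smul]
    abel
  have h5 : ac B (w * (ρ * u) * w⁻¹) f = c • f := by
    rw [ac_mul, ac_mul, ac_mul, h2, ac_sub, hue, hu.1 _ hd, ac_sub, ac_add, h4, ref_fix h hff hρ he,
      ref_fix h hff hρ hd, ac_sub, ac_add, ac_smul, hwf, hw.1 _ he, hw.1 _ hd]
    have h6 := inv_mul_cancel₀ hc0
    match_scalars
    · ring
    · first | linear_combination h6 | linear_combination -h6
  rw [ac_mul, h5, ← h4, ac_inv_ac]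

/-! ### Generation of `FixS (perp E)` -/

/-- skew symmetry of the displacement -/
theorem form_skew [Finite F] [Finite V] (h : HS q σ B) {E : Submodule F V} (hE : IsTS B E) {g : UU B}
    (hg : g ∈ FixS B (perp B E)) (x y : V) : B (ac B g x - x) y = - B x (ac B g y - y) := by
  have h1 := form_ac g x y
  have h2 := hE _ (sub_mem_of_FixS h hg x) _ (sub_mem_of_FixS h hg y)
  have h3 : ac B g x = (ac B g x - x) + x := by abel
  have h4 : ac B g y = (ac B g y - y) + y := by abel
  rw [h3, h4] at h1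
  simp only [map_add, LinearMap.add_apply, h2] at h1
  linear_combination h1

theorem exists_skew [Finite F] (h : HS q σ B) {k : F} (hk : k + σ k = 0) : ∃ a : F, σ a - a = k := by
  obtain ⟨b, hb⟩ : ∃ b, σ b - b ≠ 0 := by
    by_contra hcon
    push Not at hcon
    exact h.ne_id (RingHom.ext fun x => sub_eq_zero.1 (hcon x))
  refine ⟨k / (σ b - b) * b, ?_⟩
  rw [map_mul, map_div₀, map_sub, h.inv, eq_neg_of_add_eq_zero_right hk]
  have hb' : b - σ b ≠ 0 := fun h0 => hb (by rw [← neg_sub, h0, neg_zero])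
  field_simp
  ring

theorem FixS_le_closure [Finite F] [Finite V] (h : HS q σ B) {E : Submodule F V} (hE : IsTS B E)
    {N : Subgroup (UU B)}
    (hN : ∀ e ∈ E, ∀ e' ∈ E, ∀ z : UU B, (∀ x, ac B z x = x + B e x • e' - B e' x • e) → z ∈ N) :
    FixS B (perp B E) ≤ N := by
  have := finrank_eq_of_HS h
  have key : ∀ n : ℕ, ∀ g ∈ FixS B (perp B E), finrank F V - finrank F (fx g) = n → g ∈ N := by
    intro n
    induction n using Nat.strong_induction_on with
    | _ n ih =>
      intro g hg hn
      by_cases hex : ∃ x, B x (ac B g x - x) ≠ 0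
      · obtain ⟨x, hx⟩ := hex
        set e := ac B g x - x with he_def
        have he : e ∈ E := sub_mem_of_FixS h hg x
        set c := B x e with hc_def
        have hcσ : σ c = - c := by
          rw [hc_def, h.sy, he_def, form_skew h hE hg x x]
        have hk : (-c⁻¹) + σ (-c⁻¹) = 0 := by
          rw [map_neg, map_inv₀, hcσ, inv_neg]
          ring
        obtain ⟨a, ha⟩ := exists_skew h hk
        obtain ⟨z, hz, hz'⟩ := exists_zz h hE (E.smul_mem a he) he
        have hzx : ∀ y, ac B z y = y + ((-c⁻¹) * B e y) • e := by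
          intro y
          rw [hz', LinearMap.map_smulₛₗ₂, smul_eq_mul, smul_smul, add_sub_assoc, ← sub_smul, ← ha]
          congr 2
          ring
        have hex' : B e x = - c := by rw [← h.sy, ← hc_def, hcσ]
        have h1 : ac B z x = ac B g x := by
          have h2 : ac B g x = x + e := by rw [he_def]; abel
          rw [hzx, h2, hex', neg_mul_neg, inv_mul_cancel₀ hx, one_smul]
        have h3 : z⁻¹ * g ∈ FixS B (perp B E) := mul_mem (inv_mem hz) hg
        have hle : fx g ≤ fx (z⁻¹ * g) := by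
          intro y hy
          have hy' : ac B g y = y := hy
          have h4 : B e y = 0 := by
            rw [he_def, form_skew h hE hg, hy', sub_self, map_zero, neg_zero]
          have h5 : ac B z y = y := by rw [hzx, h4, mul_zero, zero_smul, add_zero]
          show ac B (z⁻¹ * g) y = y
          rw [ac_mul, hy', ac_inv_eq h5]
        have hxm : x ∈ fx (z⁻¹ * g) := by
          show ac B (z⁻¹ * g) x = x
          rw [ac_mul, ← h1, ac_inv_ac]
        have hxn : x ∉ fx g := by
          intro h6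
          have h6' : ac B g x = x := h6
          apply hx
          rw [hc_def, he_def, h6', sub_self, map_zero]
        have hlt : finrank F (fx g) < finrank F (fx (z⁻¹ * g)) :=
          Submodule.finrank_lt_finrank_of_lt (lt_of_le_of_ne hle fun h0 => hxn (h0 ▸ hxm))
        have hle2 : finrank F (fx (z⁻¹ * g)) ≤ finrank F V := Submodule.finrank_le _
        have h7 : z⁻¹ * g ∈ N := ih _ (by omega) _ h3 rfl
        have h8 : z ∈ N := hN _ (E.smul_mem a he) _ he z hz'
        have h9 : g = z * (z⁻¹ * g) := by group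
        rw [h9]
        exact mul_mem h8 h7
      · push Not at hex
        have h1 : g = 1 := by
          refine ac_ext fun y => ?_
          rw [ac_one]
          refine sub_eq_zero.1 (h.ext fun x => ?_)
          refine h.zero_symm ?_
          obtain ⟨b, hb⟩ : ∃ b, σ b - b ≠ 0 := by
            by_contra hcon
            push Not at hcon
            exact h.ne_id (RingHom.ext fun x => sub_eq_zero.1 (hcon x))
          have hpol : ∀ x y, B x (ac B g y - y) + B y (ac B g x - x) = 0 := by
            intro x y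
            have h2 := hex (x + y)
            have h3 : ac B g (x + y) - (x + y) = (ac B g x - x) + (ac B g y - y) := by
              rw [ac_add]
              abel
            rw [h3, map_add, map_add, LinearMap.add_apply, LinearMap.add_apply, hex, hex] at h2
            linear_combination h2
          have h2 := hpol x y
          have h3 := hpol (b • x) y
          rw [LinearMap.map_smulₛₗ₂, ac_smul, ← smul_sub, map_smul, smul_eq_mul, smul_eq_mul] at h3
          have h4 : (σ b - b) * B x (ac B g y - y) = 0 := by linear_combination h3 - b * h2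
          exact (mul_eq_zero.1 h4).resolve_left hb
        rw [h1]
        exact one_mem N
  exact fun g hg => key _ g hg rfl

end Cfsg.Agent.H161.CC
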